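import Groth.Agent.EulerRpushLib.Step
import Groth.Agent.RpushLib.Finite
import Groth.Agent.DegPullLib.H0
import Groth.Agent.FormalCohLib.Counit
import Groth.Agent.HilbPolyLib.Basic
import Groth.Agent.RpushLib.Vanish

/-!
# The Euler characteristic as alternating sum over higher direct images
-/

set_option autoImplicit false
set_option linter.style.haveILetI false
universe u

open CategoryTheory CategoryTheory.Limits AlgebraicGeometry TopologicalSpace Opposite
open QCohLib (toAbF)
open CurvLib (hMap hDel exact₁ exact₃)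

noncomputable section

namespace EulerRpushLib

/-- Higher direct images vanish on the stalk where cohomology over small affine opens does. -/
theorem notMem_support_rpush {X S : Scheme.{u}} (f : X ⟶ S) [QuasiCompact f] [QuasiSeparated f]
    [HasInjectiveResolutions X.Modules] (M : X.Modules) [Coh.IsQCoh M] (p : ℕ) (y : S) (V : S.Opens)
    (hy : y ∈ V) (h : ∀ W : S.Opens, IsAffineOpen W → W ≤ V → Subsingleton (Coh.HHon X M (f ⁻¹ᵁ W) p)) :
    y ∉ CohB1.support ((Coh.Rpush f p).obj M) := by
  let N := (Coh.Rpush f p).obj M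
  refine not_not_intro ((QCohLib.subsingleton_stalk_iff N y).mpr fun U hU t => ?_)
  obtain ⟨W, hW, hyW, hle⟩ := Opens.isBasis_iff_nbhd.mp S.isBasis_affineOpens
    (U := U ⊓ V) (x := y) ⟨hU, hy⟩
  refine ⟨W, hle.trans inf_le_left, hyW, ?_⟩
  have := h W hW (hle.trans inf_le_right)
  exact (RpushLib.rpushSectionsEquiv f M p hW).injective (Subsingleton.elim _ _)

theorem isEmpty_of_dim_lt_zero {α : Type u} [TopologicalSpace α] (h : topologicalKrullDim α < (0 : ℕ)) :
    IsEmpty α := by
  refine ⟨fun x => ?_⟩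
  haveI : Nonempty (IrreducibleCloseds α) :=
    ⟨⟨closure {x}, isIrreducible_singleton.closure, isClosed_closure⟩⟩
  have := (Order.krullDim_nonneg (α := IrreducibleCloseds α)).trans_lt h
  exact absurd this (by simp)

theorem subsingleton_HH_of_isEmpty {X : Scheme.{u}} [IsEmpty X] (M : X.Modules) (p : ℕ) :
    Subsingleton (Coh.HH X M p) :=
  haveI : IsAffine X := isAffine_of_isEmpty
  haveI : Coh.IsQCoh M := (DevissLib.isCoh_of_isZero (DevissLib.isZero_of_support_empty
    (Set.eq_empty_of_forall_notMem fun x _ => (IsEmpty.false (α := X) x).elim))).1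
  match p with
  | 0 =>
    haveI : Subsingleton Γ(M, ⊤) := ⟨fun a b =>
      TopCat.Presheaf.section_ext ((toAbF X).obj M : TopCat.Sheaf AddCommGrpCat.{u} X.toTopCat) ⊤ a b
        fun x _ => (IsEmpty.false (α := X) x).elim⟩
    (DegPullLib.e0 M).injective.subsingleton
  | p + 1 => QCohLib.subsingleton_HH_affine M (p + 1) p.succ_pos

/-- Higher direct images vanish beyond the dimension of the source. -/
theorem isZero_rpush_of_dim_lt {X S : Scheme.{u}} (f : X ⟶ S) [QuasiCompact f] [QuasiSeparated f]
    [NoetherianSpace X] [HasInjectiveResolutions X.Modules] (M : X.Modules) [Coh.IsQCoh M] {D : ℕ}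
    (hD : topologicalKrullDim X < (D : ℕ)) {p : ℕ} (hp : D ≤ p) : IsZero ((Coh.Rpush f p).obj M) := by
  refine DevissLib.isZero_of_support_empty (Set.eq_empty_of_forall_notMem fun y =>
    notMem_support_rpush f M p y ⊤ trivial fun W _ _ => ?_)
  haveI : NoetherianSpace (f ⁻¹ᵁ W : Scheme.{u}) :=
    (f ⁻¹ᵁ W).ι.isEmbedding.isInducing.noetherianSpace
  rcases Nat.eq_zero_or_pos p with rfl | hp0
  · obtain rfl : D = 0 := Nat.le_zero.mp hp
    haveI : IsEmpty X := isEmpty_of_dim_lt_zero hD
    haveI : IsEmpty ((f ⁻¹ᵁ W : X.Opens) : Scheme.{u}) := Function.isEmpty (f ⁻¹ᵁ W).ι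
    exact subsingleton_HH_of_isEmpty _ _
  have hle : topologicalKrullDim X ≤ ((p - 1 : ℕ) : WithBot ℕ∞) := by
    obtain ⟨q, rfl⟩ : ∃ q, p = q + 1 := ⟨p - 1, by omega⟩
    refine ENat.WithBot.lt_add_one_iff.mp (hD.trans_le ?_)
    exact_mod_cast hp
  exact CurvLib.subsingleton_HH_of_dim_le (d := p - 1) _
    (((f ⁻¹ᵁ W).ι.isEmbedding.isInducing.topologicalKrullDim_le).trans hle) p (by omega)

variable {X Y : Scheme.{u}} {k : Type u} [Field k]
  [X.Over (Spec (CommRingCat.of k))] [Y.Over (Spec (CommRingCat.of k))]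

/-- The kernel sequence of an injective resolution. -/
abbrev cycSeq {G : Y.Modules} (I : InjectiveResolution G) (n : ℕ) : ShortComplex Y.Modules :=
  ShortComplex.mk (kernel.ι (I.cocomplex.d n (n + 1)))
    (kernel.lift (I.cocomplex.d (n + 1) (n + 2)) (I.cocomplex.d n (n + 1)) (I.cocomplex.d_comp_d _ _ _))
    (by rw [← cancel_mono (kernel.ι (I.cocomplex.d (n + 1) (n + 2))), Category.assoc, kernel.lift_ι,
      kernel.condition, zero_comp])

theorem cycSeq_shortExact {G : Y.Modules} (I : InjectiveResolution G) (n : ℕ) :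
    (cycSeq I n).ShortExact := by
  let d := I.cocomplex.d n (n + 1)
  let S'' : ShortComplex Y.Modules := ShortComplex.mk (kernel.ι d) d (kernel.condition d)
  let α : cycSeq I n ⟶ S'' :=
    { τ₁ := 𝟙 _, τ₂ := 𝟙 _, τ₃ := kernel.ι (I.cocomplex.d (n + 1) (n + 2)),
      comm₁₂ := by simp [S'', d], comm₂₃ := by simp [S'', d] }
  have : Epi α.τ₁ := inferInstanceAs (Epi (𝟙 _))
  have : IsIso α.τ₂ := inferInstanceAs (IsIso (𝟙 _))
  have : Mono α.τ₃ := inferInstanceAs (Mono (kernel.ι _))
  exact { exact := (ShortComplex.exact_iff_of_epi_of_isIso_of_mono α).mpr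
            (ShortComplex.exact_of_f_is_kernel _ (kernelIsKernel d))
          mono_f := inferInstanceAs (Mono (kernel.ι d))
          epi_g := (ShortComplex.exact_iff_epi_kernel_lift _).mp (I.exact_succ n) }

theorem nonempty_cokernel_iso_rpush (f : Y ⟶ X) [HasInjectiveResolutions Y.Modules] {G : Y.Modules}
    (I : InjectiveResolution G) (n : ℕ) :
    Nonempty (cokernel ((Coh.push f).map (cycSeq I n).g) ≅ (Coh.Rpush f (n + 1)).obj G) := by
  haveI : PreservesFiniteLimits (Coh.push f) :=
    have := (Scheme.Modules.pullbackPushforwardAdjunction f).rightAdjoint_preservesLimits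
    inferInstance
  let C := RpushLib.pushCx f I.cocomplex
  let S := C.sc' n (n + 1) (n + 2)
  let i := (Coh.push f).map (kernel.ι (I.cocomplex.d (n + 1) (n + 2)))
  have wi : i ≫ S.g = 0 := by
    change (Coh.push f).map _ ≫ (Coh.push f).map _ = 0
    rw [← Functor.map_comp, kernel.condition, Functor.map_zero]
  have hi : IsLimit (KernelFork.ofι i wi) :=
    KernelFork.mapIsLimit _ (kernelIsKernel (I.cocomplex.d (n + 1) (n + 2))) (Coh.push f)
  have hlift : hi.lift (KernelFork.ofι S.f S.zero) = (Coh.push f).map (cycSeq I n).g := by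
    refine Fork.IsLimit.hom_ext hi ?_
    refine (Fork.IsLimit.lift_ι hi).trans ?_
    change (Coh.push f).map (I.cocomplex.d n (n + 1)) = _ ≫ (Coh.push f).map _
    rw [← Functor.map_comp, kernel.lift_ι]
  let h : S.LeftHomologyData :=
    { K := (Coh.push f).obj (kernel (I.cocomplex.d (n + 1) (n + 2)))
      H := cokernel ((Coh.push f).map (cycSeq I n).g)
      i := i
      π := cokernel.π _
      wi := wi
      hi := hi
      wπ := (congrArg (· ≫ cokernel.π _) hlift).trans (cokernel.condition _)
      hπ := CokernelCofork.IsColimit.ofπ _ _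
        (fun g hg => cokernel.desc _ g ((congrArg (· ≫ g) hlift).symm.trans hg))
        (fun g hg => cokernel.π_desc _ _ _)
        (fun g hg m hm => coequalizer.hom_ext (hm.trans (cokernel.π_desc _ _ _).symm)) }
  exact ⟨h.homologyIso.symm ≪≫ (C.homologyIsoSc' n (n + 1) (n + 2) (by simp) (by simp)).symm ≪≫
    (RpushLib.rpushIso f I (n + 1)).symm⟩

/-- **The Euler characteristic is the alternating sum over the higher direct images.** -/
theorem euler_eq_sum_rpush [IsProper (X ↘ Spec (CommRingCat.of k))] [IsProper (Y ↘ Spec (CommRingCat.of k))]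
    (f : Y ⟶ X) (hf : f ≫ (X ↘ Spec (CommRingCat.of k)) = Y ↘ Spec (CommRingCat.of k))
    [HasInjectiveResolutions Y.Modules] (G : Y.Modules) (hG : Coh.IsCoh G) :
    ∃ N : ℕ, (∀ i, N ≤ i → IsZero ((Coh.Rpush f i).obj G)) ∧
      Curv2.euler k Y G =
        ∑ i ∈ Finset.range N, (-1 : ℤ) ^ i * Curv2.euler k X ((Coh.Rpush f i).obj G) := by
  haveI := CurvLib.isNoetherian k (X := X)
  haveI := CurvLib.isNoetherian k (X := Y)
  haveI : IsProper f := by
    haveI : IsProper (f ≫ (X ↘ Spec (CommRingCat.of k))) := hf ▸ inferInstance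
    exact IsProper.of_comp f (X ↘ Spec (CommRingCat.of k))
  haveI : Coh.IsQCoh G := hG.1
  obtain ⟨DX, hDX⟩ := HilbPolyLib.exists_dim_lt k (X := X)
  obtain ⟨DY, hDY⟩ := HilbPolyLib.exists_dim_lt k (X := Y)
  set D := DX + DY + 1 with hDdef
  have hvX : ∀ M : X.Modules, ∀ p, D ≤ p → Subsingleton (Coh.HH X M p) := fun M p hp =>
    CurvLib.subsingleton_HH_of_dim_le (d := DX) M hDX.le p (by omega)
  have hvY : ∀ M : Y.Modules, ∀ p, D ≤ p → Subsingleton (Coh.HH Y M p) := fun M p hp =>
    CurvLib.subsingleton_HH_of_dim_le (d := DY) M hDY.le p (by omega)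
  have hR0 : ∀ i, D ≤ i → IsZero ((Coh.Rpush f i).obj G) := fun i hi =>
    isZero_rpush_of_dim_lt f G hDY (by omega)
  have hRc : ∀ i, Coh.IsCoh ((Coh.Rpush f i).obj G) := fun i => Groth.Agent.S0036.result f G hG i
  let I := injectiveResolution G
  let Z : ℕ → Y.Modules := fun n => kernel (I.cocomplex.d n (n + 1))
  have eR : ∀ n, Nonempty (cokernel ((Coh.push f).map (cycSeq I n).g) ≅ (Coh.Rpush f (n + 1)).obj G) :=
    nonempty_cokernel_iso_rpush f I
  let e0 : Z 0 ≅ G :=
    (kernelIsKernel _).conePointUniqueUpToIso I.isLimitKernelFork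
  have hacY : ∀ n, IsAcyclic (cycSeq I n).X₂ := fun n =>
    haveI := RpushLib.isFlasque_toAb_injective (I.cocomplex.X n)
    isAcyclic_of_isFlasque _
  have hacX : ∀ n, IsAcyclic ((Coh.push f).obj (cycSeq I n).X₂) := fun n =>
    haveI := isFlasque_push f (I.cocomplex.X n)
    isAcyclic_of_isFlasque _
  have hYshift : ∀ n p, Nonempty (Coh.HH Y (Z (n + 1)) (p + 1) ≃ₗ[k] Coh.HH Y (Z n) (p + 2)) := fun n p => by
    refine ⟨LinearEquiv.ofBijective (hDel (k := k) (cycSeq_shortExact I n) (p + 1)) ⟨?_, ?_⟩⟩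
    · rw [← LinearMap.ker_eq_bot, ← exact₃ (cycSeq_shortExact I n) (p + 1), LinearMap.range_eq_bot]
      haveI := hacY n p
      exact LinearMap.ext fun x => by rw [Subsingleton.elim x 0, map_zero]; rfl
    · rw [← LinearMap.range_eq_top, exact₁ (cycSeq_shortExact I n) (p + 1), LinearMap.ker_eq_top]
      haveI := hacY n (p + 1)
      exact LinearMap.ext fun x => Subsingleton.elim _ _
  have hYH : ∀ n p, Nonempty (Coh.HH Y (Z n) (p + 1) ≃ₗ[k] Coh.HH Y G (n + p + 1)) := by
    intro n
    induction n with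
    | zero => exact fun p => ⟨(CurvLib.hIso (k := k) e0 (p + 1)).trans (LinearEquiv.cast (R := k)
        (M := fun i => Coh.HH Y G i) (by omega : p + 1 = 0 + p + 1))⟩
    | succ n ih => exact fun p => ⟨(hYshift n p).some.trans ((ih (p + 1)).some.trans
        (LinearEquiv.cast (R := k) (M := fun i => Coh.HH Y G i) (by omega)))⟩
  have hY1 : ∀ n, Module.Finite k (Coh.HH Y (Z n) 1) := fun n =>
    haveI := CurvLib.finite_HH (k := k) hG (n + 0 + 1)
    Module.Finite.equiv (hYH n 0).some.symm
  have hRfin : ∀ n p, Module.Finite k (Coh.HH X (cokernel ((Coh.push f).map (cycSeq I n).g)) p) :=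
    fun n p => CurvLib.finite_HH (QCohLib.isCoh_of_iso (eR n).some.symm (hRc _)) p
  -- beyond the range of the higher direct images the cycles have no higher cohomology
  have hbig : ∀ n, D ≤ n → ∀ j p, Nonempty (Coh.HH X ((Coh.push f).obj (Z (n + j))) (p + 1) ≃ₗ[k]
      Coh.HH X ((Coh.push f).obj (Z n)) (j + p + 1)) := by
    intro n hn j
    induction j with
    | zero => exact fun p => ⟨LinearEquiv.cast (R := k) (M := fun i => Coh.HH X _ i) (by omega)⟩
    | succ j ih =>
      intro p
      haveI : PreservesFiniteLimits (Coh.push f) :=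
        have := (Scheme.Modules.pullbackPushforwardAdjunction f).rightAdjoint_preservesLimits
        inferInstance
      obtain ⟨hex, hmono⟩ := (Functor.preservesFiniteLimits_iff_forall_exact_map_and_mono (Coh.push f)).mp
        inferInstance _ (cycSeq_shortExact I (n + j))
      have hepi : Epi ((Coh.push f).map (cycSeq I (n + j)).g) :=
        Preadditive.epi_of_isZero_cokernel _ ((hR0 _ (by omega)).of_iso (eR _).some)
      have hS : ((cycSeq I (n + j)).map (Coh.push f)).ShortExact :=
        { exact := hex, mono_f := hmono, epi_g := hepi }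
      have hac : ∀ q, Subsingleton (Coh.HH X ((cycSeq I (n + j)).map (Coh.push f)).X₂ (q + 1)) := hacX (n + j)
      refine ⟨(LinearEquiv.ofBijective (hDel (k := k) hS (p + 1)) ⟨?_, ?_⟩).trans
        ((ih (p + 1)).some.trans (LinearEquiv.cast (R := k) (M := fun i => Coh.HH X _ i) (by omega)))⟩
      · rw [← LinearMap.ker_eq_bot, ← exact₃ hS (p + 1), LinearMap.range_eq_bot]
        haveI := hac p
        exact LinearMap.ext fun x => by rw [Subsingleton.elim x 0, map_zero]; rfl
      · rw [← LinearMap.range_eq_top, exact₁ hS (p + 1), LinearMap.ker_eq_top]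
        haveI := hac (p + 1)
        exact LinearMap.ext fun x => Subsingleton.elim _ _
  have hzero : ∀ p, Subsingleton (Coh.HH X ((Coh.push f).obj (Z (D + D))) (p + 1)) := fun p =>
    haveI := hvX ((Coh.push f).obj (Z D)) (D + p + 1) (by omega)
    (hbig D le_rfl D p).some.toEquiv.subsingleton
  have hstep := fun n (h3 : ∀ p, Module.Finite k (Coh.HH X ((Coh.push f).obj (Z (n + 1))) (p + 1))) =>
    step f hf (cycSeq_shortExact I n) (hacY n) (hacX n) (hY1 n) (hRfin n) h3 hvX
  have hfin : ∀ n, n ≤ D + D → ∀ p, Module.Finite k (Coh.HH X ((Coh.push f).obj (Z n)) (p + 1)) := by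
    intro n hn
    induction hn using Nat.decreasingInduction with
    | self => exact fun p => haveI := hzero p; inferInstance
    | of_succ m hm ih => exact (hstep m ih).1
  let e : ℕ → ℤ := fun n => posEuler k D ((Coh.push f).obj (Z n))
  have hrec : ∀ n, n < D + D → (Module.finrank k (Coh.HH Y G (n + 1)) : ℤ) =
      e n + e (n + 1) + Curv2.euler k X ((Coh.Rpush f (n + 1)).obj G) := fun n hn => by
    rw [← CurvLib.euler_congr (eR n).some]
    have h := (hstep n (hfin (n + 1) hn)).2
    rw [(hYH n 0).some.finrank_eq] at h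
    simpa [e, Z] using h
  have hsum : ∀ n, n ≤ D + D → ∑ i ∈ Finset.range n, (-1 : ℤ) ^ i *
      ((Module.finrank k (Coh.HH Y G (i + 1)) : ℤ) - Curv2.euler k X ((Coh.Rpush f (i + 1)).obj G)) =
      e 0 - (-1) ^ n * e n := by
    intro n hn
    induction n with
    | zero => simp
    | succ n ih => rw [Finset.sum_range_succ, ih (by omega), hrec n (by omega), pow_succ]; ring
  have hlast : e (D + D) = 0 := Finset.sum_eq_zero fun p _ => by
    haveI := hzero p
    simp [Module.finrank_zero_of_subsingleton]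
  have he0 : e 0 = (Module.finrank k (Coh.HH Y G 0) : ℤ) -
      Curv2.euler k X ((Coh.Rpush f 0).obj G) := by
    simp only [e]
    rw [posEuler_congr D ((Coh.push f).mapIso e0),
      CurvLib.euler_congr ((Scheme.Modules.pushforward f).rightDerivedZeroIsoSelf.app G),
      CurvLib.euler_eq_sum (d := D + 1) fun p hp => hvX _ p (by omega), Finset.sum_range_succ',
      DegPullLib.finrank_H0_push k f hf G, posEuler]
    simp only [pow_succ, mul_neg_one, neg_mul, pow_zero, one_mul, Finset.sum_neg_distrib]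
    change _ = _ - (-(∑ p ∈ Finset.range D, (-1 : ℤ) ^ p *
      (Module.finrank k (Coh.HH X ((Coh.push f).obj G) (p + 1)) : ℤ)) + _)
    ring
  refine ⟨D + D + 1, fun i hi => hR0 i (by omega), ?_⟩
  have h := hsum (D + D) le_rfl
  rw [hlast, mul_zero, sub_zero, he0] at h
  simp only [mul_sub, Finset.sum_sub_distrib] at h
  rw [CurvLib.euler_eq_sum (d := D + D + 1) fun p hp => hvY G p (by omega), Finset.sum_range_succ',
    Finset.sum_range_succ']
  simp only [pow_succ, mul_neg_one, neg_mul, pow_zero, one_mul, Finset.sum_neg_distrib]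
  linarith

end EulerRpushLib

end
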