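import Groth.Agent.IntFunLib.NList
import Groth.Agent.FibVanLib.Noeth
import Groth.Agent.RpushLib.Ab
import Groth.Agent.FibDimLib.Formula
import Groth.Agent.IntMultLib.Positive

/-!
# Euler characteristics along modifications of surfaces
-/

set_option autoImplicit false
set_option linter.style.haveILetI false
universe u

open CategoryTheory CategoryTheory.Limits AlgebraicGeometry TopologicalSpace Opposite

noncomputable section

namespace EulerRpushLib

/-- The stalks of the two higher direct images vanish together. -/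
theorem notMem_support_of_isZero_stalk {X S : Scheme.{u}} (f : X ⟶ S) [HasInjectiveResolutions X.Modules]
    (M : X.Modules) (p : ℕ) (y : S)
    (h : IsZero (TopCat.Presheaf.stalk ((Coh.RpushAb f p).obj (Coh.toAb M)).obj y)) :
    y ∉ CohB1.support ((Coh.Rpush f p).obj M) := by
  obtain ⟨e⟩ := RpushLib.nonempty_toAb_rpush_iso f M p
  have he := (TopCat.Presheaf.stalkFunctor AddCommGrpCat.{u} y).mapIso
    ((CategoryTheory.sheafToPresheaf _ _).mapIso e)
  exact not_not_intro (AddCommGrpCat.subsingleton_of_isZero (h.of_iso he))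

theorem isZero_rpushAb_iff {X S : Scheme.{u}} (f : X ⟶ S) [HasInjectiveResolutions X.Modules]
    (M : X.Modules) (p : ℕ) :
    IsZero ((Coh.RpushAb f p).obj (Coh.toAb M)) ↔ IsZero ((Coh.Rpush f p).obj M) := by
  obtain ⟨e⟩ := RpushLib.nonempty_toAb_rpush_iso f M p
  refine ⟨fun h => DevissLib.isZero_of_support_empty (Set.eq_empty_of_forall_notMem fun y =>
    notMem_support_of_isZero_stalk f M p y ?_), fun h => ((QCohLib.toAbF S).map_isZero h).of_iso e.symm⟩
  exact (TopCat.Presheaf.stalkFunctor AddCommGrpCat.{u} y).map_isZero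
    ((CategoryTheory.sheafToPresheaf _ _).map_isZero h)

/-- A subspace all of whose point closures are zero dimensional is zero dimensional. -/
theorem dim_le_zero_of_points {α : Type u} [TopologicalSpace α] [T0Space α] [QuasiSober α] {T : Set α}
    (hT : IsClosed T) (h : ∀ x ∈ T, topologicalKrullDim (closure ({x} : Set α)) ≤ 0) :
    topologicalKrullDim T ≤ 0 := by
  haveI : QuasiSober T := hT.isClosedEmbedding_subtypeVal.quasiSober
  refine FibDimLib.topologicalKrullDim_le_of_generic (A := T) (c := 0) fun z _ => ?_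
  refine le_trans (le_of_eq ?_) (h z.1 z.2)
  have himg : Subtype.val '' closure ({z} : Set T) = closure ({z.1} : Set α) := by
    rw [← hT.isClosedEmbedding_subtypeVal.closure_image_eq, Set.image_singleton]
  rw [← himg]
  exact IsHomeomorph.topologicalKrullDim_eq _
    (Topology.IsEmbedding.subtypeVal.homeomorphImage (closure {z})).isHomeomorph

variable {k : Type u} [Field k] {X Y : Scheme.{u}} [X.Over (Spec (CommRingCat.of k))]
  [Y.Over (Spec (CommRingCat.of k))] [IsProper (X ↘ Spec (CommRingCat.of k))]
  [IsProper (Y ↘ Spec (CommRingCat.of k))]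

/-- **Rationality and Euler characteristics**: for a modification of a surface, `R¹` of the structure
sheaf vanishes iff the Euler characteristics of the source and of the direct image agree. -/
theorem isZero_rpushAb_one_iff [IsIntegral Y] (hY : topologicalKrullDim Y = 2) (f : Y ⟶ X)
    (hf : f ≫ (X ↘ Spec (CommRingCat.of k)) = Y ↘ Spec (CommRingCat.of k)) (U : X.Opens)
    (hU : f (genericPoint Y) ∈ U) (hfin : ∀ x ∈ U, (f ⁻¹' {x}).Finite) :
    IsZero ((Coh.RpushAb f 1).obj (Coh.toAb (Coh.structureModule Y))) ↔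
      Curv2.euler k Y (Coh.structureModule Y) =
        Curv2.euler k X ((Coh.push f).obj (Coh.structureModule Y)) := by
  haveI := CurvLib.isNoetherian k (X := X)
  haveI := CurvLib.isNoetherian k (X := Y)
  haveI : IsProper f := IntFunLib.isProper_g hf
  haveI : HasInjectiveResolutions Y.Modules := inferInstance
  have hO := DevissLib.isCoh_structureModule Y
  let S : Set Y := f ⁻¹' (U : Set X)ᶜ
  have hS : IsClosed S := U.2.isClosed_compl.preimage f.continuous
  have hSd : topologicalKrullDim S < ((1 + 1 : ℕ) : WithBot ℕ∞) := by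
    refine HilbPolyLib.dim_lt_of_notMem hS (fun z _ => ?_) (show genericPoint Y ∉ S from fun h => h hU)
      (Y := Set.univ) (Set.subset_univ _) ?_
    · rw [(genericPoint_spec Y).def]; exact trivial
    · exact ((topologicalKrullDim_subspace_le _ _).trans hY.le).trans_lt
        (by exact_mod_cast (show (2 : ℕ) < 1 + 1 + 1 by omega))
  have hhigh : ∀ i, 2 ≤ i → IsZero ((Coh.Rpush f i).obj (Coh.structureModule Y)) := by
    intro i hi
    refine DevissLib.isZero_of_support_empty (Set.eq_empty_of_forall_notMem fun x => ?_)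
    by_cases hx : x ∈ U
    · obtain ⟨q, rfl⟩ : ∃ q, i = q + 1 := ⟨i - 1, by omega⟩
      exact IntFunLib.notMem_support_rpush_of_finite f hO x ((hfin x hx).inter_of_right _) q
    · refine notMem_support_of_isZero_stalk f _ i x
        (FibVanLib.isZero_stalk_rpushAb f x 1 ?_ _ hO i (by omega))
      have h1 : topologicalKrullDim (Set.range (f.fiberι x)) ≤ ((1 : ℕ) : WithBot ℕ∞) := by
        refine (IntFunLib.dim_mono (T := S) ?_).trans (IntFunLib.dim_le_iff.mp hSd)
        rw [Scheme.Hom.range_fiberι]
        exact fun z hz => show f z ∉ U from (show f z = x from hz).symm ▸ hx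
      exact ((f.fiberι x).isEmbedding.toHomeomorph.isHomeomorph.topologicalKrullDim_eq).le.trans h1
  let R := (Coh.Rpush f 1).obj (Coh.structureModule Y)
  have hR : Coh.IsCoh R := Groth.Agent.S0036.result f _ hO 1
  have hRd : topologicalKrullDim (CohB1.support R) ≤ ((0 : ℕ) : WithBot ℕ∞) := by
    refine dim_le_zero_of_points (QCohLib.isClosed_support _ hR.2) fun x hx => ?_
    have hinf : ¬ (S ∩ f ⁻¹' {x}).Finite := fun hfin' => by
      refine IntFunLib.notMem_support_rpush_of_finite f hO x ?_ 0 hx
      by_cases hxU : x ∈ U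
      · exact (hfin x hxU).inter_of_right _
      · exact hfin'.subset fun z hz => ⟨show f z ∉ U from hz.2.symm ▸ hxU, hz.2⟩
    have := IntFunLib.dim_closure_lt_of_infinite (k := k) (f := f) hS hinf hSd
    exact IntFunLib.dim_le_iff.mp (this.trans_le (by simp))
  have h01 : (IsZero R ↔ Curv2.euler k X R = 0) := by
    refine ⟨fun h => ?_, fun h => DevissLib.isZero_of_support_empty ?_⟩
    · exact HilbPolyLib.euler_zero h
    · rcases (CohB1.support R).eq_empty_or_nonempty with he | hne
      · exact he
      · exact absurd h (IntMultLib.euler_pos_of_dim_zero hR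
          (le_antisymm hRd (by exact_mod_cast IntFunLib.nonneg_dim hne))).ne'
  obtain ⟨N, hN, hsum⟩ := euler_eq_sum_rpush f hf (Coh.structureModule Y) hO
  rw [Finset.sum_subset (s₂ := Finset.range (N + 2)) (Finset.range_mono (by omega)) (fun i _ hi => by
      rw [HilbPolyLib.euler_zero (hN i (by simpa using hi)), mul_zero]),
    Finset.range_eq_Ico, ← Finset.sum_Ico_consecutive _ (Nat.zero_le 2) (by omega : 2 ≤ N + 2),
    Finset.sum_eq_zero (s := Finset.Ico 2 (N + 2)) (fun i hi => by
      rw [HilbPolyLib.euler_zero (hhigh i (Finset.mem_Ico.mp hi).1), mul_zero]),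
    ← Finset.range_eq_Ico, Finset.sum_range_succ, Finset.sum_range_one, add_zero, pow_zero, one_mul, pow_one,
    CurvLib.euler_congr ((Scheme.Modules.pushforward f).rightDerivedZeroIsoSelf.app _)] at hsum
  rw [isZero_rpushAb_iff, h01, hsum]
  change Curv2.euler k X R = 0 ↔ Curv2.euler k X ((Coh.push f).obj (Coh.structureModule Y)) +
    -1 * Curv2.euler k X R = _
  omega

/-- An isomorphism over an open set is injective over it. -/
theorem subsingleton_fibre {A B : Scheme.{u}} (f : A ⟶ B) (U : B.Opens) [IsIso (f ∣_ U)] {x : B} (hx : x ∈ U) :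
    (f ⁻¹' {x}).Subsingleton := by
  intro a ha b hb
  have ha' : a ∈ f ⁻¹ᵁ U := by
    change f a ∈ U
    rw [show f a = x from ha]; exact hx
  have hb' : b ∈ f ⁻¹ᵁ U := by
    change f b ∈ U
    rw [show f b = x from hb]; exact hx
  have heq : (f ∣_ U) ⟨a, ha'⟩ = (f ∣_ U) ⟨b, hb'⟩ := Subtype.ext
    ((morphismRestrict_base_coe f U ⟨a, ha'⟩).trans (((show f a = x from ha).trans (show x = f b from hb.symm)).trans
      (morphismRestrict_base_coe f U ⟨b, hb'⟩).symm))
  exact congrArg Subtype.val ((f ∣_ U).homeomorph.injective heq)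

theorem exists_over {A B : Scheme.{u}} (f : A ⟶ B) (U : B.Opens) [IsIso (f ∣_ U)] {x : B} (hx : x ∈ U) :
    ∃ a, f a = x := by
  obtain ⟨a, ha⟩ := (f ∣_ U).homeomorph.surjective ⟨x, hx⟩
  exact ⟨a.1, (morphismRestrict_base_coe f U a).symm.trans (congrArg Subtype.val ha)⟩

theorem isIso_stalkMap_of_restrict {A B : Scheme.{u}} (f : A ⟶ B) (U : B.Opens) [IsIso (f ∣_ U)] {a : A}
    (ha : a ∈ f ⁻¹ᵁ U) : IsIso (f.stalkMap a) :=
  ((MorphismProperty.isomorphisms _).arrow_mk_iso_iff (morphismRestrictStalkMap f U ⟨a, ha⟩)).mp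
    (inferInstanceAs (IsIso ((f ∣_ U).stalkMap ⟨a, ha⟩)))

end EulerRpushLib

end
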