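import Groth.Agent.NakaiLib.Gen
import Groth.Agent.DevissLib.Basic
import Groth.Agent.CurvLib.SupportVanish
import Groth.Agent.RpushLib.Flasque
import Groth.Agent.QCohLib.AbCoh

/-!
# One step of the Leray filtration for Euler characteristics
-/

set_option autoImplicit false
set_option linter.style.haveILetI false
set_option linter.unusedVariables false
universe u

open CategoryTheory CategoryTheory.Limits AlgebraicGeometry TopologicalSpace Opposite
open QCohLib (toAbF)
open CurvLib (hMap hDel exact₁ exact₂ exact₃ injective₀)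

noncomputable section

namespace EulerRpushLib

variable {X Y : Scheme.{u}} {k : Type u} [Field k]
  [X.Over (Spec (CommRingCat.of k))] [Y.Over (Spec (CommRingCat.of k))]
  (f : Y ⟶ X) (hf : f ≫ (X ↘ Spec (CommRingCat.of k)) = Y ↘ Spec (CommRingCat.of k))

/-- Global sections of a direct image, linearly over the base field. -/
def pushH0 (M : Y.Modules) : Coh.HH X ((Coh.push f).obj M) 0 ≃ₗ[k] Coh.HH Y M 0 :=
  letI := CurvLib.secModule (k := k) M
  letI := CurvLib.secModule (k := k) ((Coh.push f).obj M)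
  (CurvLib.hhZeroEquiv (k := k) ((Coh.push f).obj M)).trans
    (({ toFun := fun s => (show Γ(M, ⊤) from s)
        invFun := fun s => s
        left_inv := fun _ => rfl
        right_inv := fun _ => rfl
        map_add' := fun _ _ => rfl
        map_smul' := fun c s => by
          have hc : f.app ⊤ (Coh.toGlobal (X ↘ (Spec (CommRingCat.of k))) c) =
              Coh.toGlobal (Y ↘ (Spec (CommRingCat.of k))) c := by rw [← hf]; rfl
          exact congrArg (fun t : Γ(Y, ⊤) => t • (show Γ(M, ⊤) from s)) hc } :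
      Γ((Coh.push f).obj M, ⊤) ≃ₗ[k] Γ(M, ⊤)).trans (CurvLib.hhZeroEquiv (k := k) M).symm)

theorem pushH0_natural {M N : Y.Modules} (g : M ⟶ N) (x : Coh.HH X ((Coh.push f).obj M) 0) :
    hMap (k := k) g 0 (pushH0 f hf M x) = pushH0 f hf N (hMap (k := k) ((Coh.push f).map g) 0 x) := by
  letI := CurvLib.secModule (k := k) M
  letI := CurvLib.secModule (k := k) N
  apply (CurvLib.hhZeroEquiv (k := k) N).injective
  refine (NakaiLib.hhZeroEquiv_map g _).trans ?_
  refine Eq.trans ?_ ((CurvLib.hhZeroEquiv (k := k) N).apply_symm_apply _).symm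
  refine (congrArg (g.app ⊤) ((CurvLib.hhZeroEquiv (k := k) M).apply_symm_apply _)).trans ?_
  exact (NakaiLib.hhZeroEquiv_map ((Coh.push f).map g) x).symm

variable (k) in
/-- The alternating sum of the dimensions of the positive degree cohomology below `D`. -/
def posEuler (D : ℕ) (M : X.Modules) : ℤ :=
  ∑ p ∈ Finset.range D, (-1 : ℤ) ^ p * (Module.finrank k (Coh.HH X M (p + 1)) : ℤ)

theorem posEuler_congr (D : ℕ) {M N : X.Modules} (e : M ≅ N) : posEuler k D M = posEuler k D N :=
  Finset.sum_congr rfl fun p _ => by rw [(CurvLib.hIso (k := k) e (p + 1)).finrank_eq]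

/-- Vanishing of cohomology in positive degrees. -/
def IsAcyclic (M : X.Modules) : Prop := ∀ p, Subsingleton (Coh.HH X M (p + 1))

theorem isAcyclic_of_isFlasque (M : X.Modules)
    [TopCat.Sheaf.IsFlasque ((toAbF X).obj M : TopCat.Sheaf AddCommGrpCat.{u} X.toTopCat)] :
    IsAcyclic M := fun p =>
  haveI := QCohLib.subsingleton_of_isFlasque p ((toAbF X).obj M) ⊤
  (QCohLib.hEquiv ((toAbF X).obj M) (p + 1)).injective.subsingleton

omit [X.Over (Spec (CommRingCat.of k))] [Y.Over (Spec (CommRingCat.of k))] in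
theorem isFlasque_push (I : Y.Modules) [Injective I] :
    TopCat.Sheaf.IsFlasque ((toAbF X).obj ((Coh.push f).obj I) : TopCat.Sheaf AddCommGrpCat.{u} X.toTopCat) :=
  ⟨fun {U V} i => (AddCommGrpCat.epi_iff_surjective _).mpr
    (RpushLib.surjective_map_injective I (f.preimage_mono i.unop.le))⟩

include hf in
/-- The hypotheses and conclusions of a step: `S` on `Y` with acyclic middle, pushed to `X`. -/
theorem step {S : ShortComplex Y.Modules} (hS : S.ShortExact) (h2 : IsAcyclic S.X₂)
    (h2' : IsAcyclic ((Coh.push f).obj S.X₂)) (hY1 : Module.Finite k (Coh.HH Y S.X₁ 1))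
    (hR : ∀ p, Module.Finite k (Coh.HH X (cokernel ((Coh.push f).map S.g)) p))
    (h3 : ∀ p, Module.Finite k (Coh.HH X ((Coh.push f).obj S.X₃) (p + 1)))
    {D : ℕ} (hD : ∀ M : X.Modules, ∀ p, D ≤ p → Subsingleton (Coh.HH X M p)) :
    (∀ p, Module.Finite k (Coh.HH X ((Coh.push f).obj S.X₁) (p + 1))) ∧
      (Module.finrank k (Coh.HH Y S.X₁ 1) : ℤ) = posEuler k D ((Coh.push f).obj S.X₁) +
        posEuler k D ((Coh.push f).obj S.X₃) + Curv2.euler k X (cokernel ((Coh.push f).map S.g)) := by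
  haveI : PreservesFiniteLimits (Coh.push f) :=
    have := (Scheme.Modules.pullbackPushforwardAdjunction f).rightAdjoint_preservesLimits
    inferInstance
  let φ : (Coh.push f).obj S.X₂ ⟶ (Coh.push f).obj S.X₃ := (Coh.push f).map S.g
  obtain ⟨hex, hmono⟩ :=
    (Functor.preservesFiniteLimits_iff_forall_exact_map_and_mono (Coh.push f)).mp inferInstance S hS
  haveI : Mono (S.map (Coh.push f)).f := hmono
  let e₁ : (Coh.push f).obj S.X₁ ≅ kernel φ :=
    hex.fIsKernel.conePointUniqueUpToIso (limit.isLimit (parallelPair φ 0))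
  let a := DevissLib.kerImSeq φ
  have ha : a.ShortExact := DevissLib.kerImSeq_shortExact φ
  let b := DevissLib.imCokSeq φ
  have hb : b.ShortExact := DevissLib.imCokSeq_shortExact φ
  let ψ : Coh.HH X b.X₂ 0 →ₗ[k] Coh.HH Y S.X₁ 1 :=
    (hDel (k := k) hS 0).comp (pushH0 f hf S.X₃).toLinearMap
  have hψ : Function.Surjective ψ := by
    suffices h : Function.Surjective (hDel (k := k) hS 0) from h.comp (pushH0 f hf S.X₃).surjective
    rw [← LinearMap.range_eq_top, exact₁ hS 0, LinearMap.ker_eq_top]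
    haveI := h2 0
    exact LinearMap.ext fun x => Subsingleton.elim _ _
  have hφ : ∀ x : Coh.HH X a.X₂ 0, hMap (k := k) b.f 0 (hMap (k := k) a.g 0 x) =
      hMap (k := k) φ 0 x := fun x => by
    rw [← CurvLib.hMap_comp]
    exact congrArg (fun g => hMap (k := k) g 0 x) (Abelian.image.fac φ)
  have hψker : ∀ z, ψ z = 0 ↔ ∃ x, hMap (k := k) φ 0 x = z := fun z => by
    have h := exact₃ (k := k) hS 0
    constructor
    · intro hz
      obtain ⟨y, hy⟩ := h.ge (LinearMap.mem_ker.mpr hz)
      obtain ⟨x, rfl⟩ := (pushH0 f hf S.X₂).surjective y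
      exact ⟨x, (pushH0 f hf S.X₃).injective ((pushH0_natural f hf S.g x).symm.trans hy)⟩
    · rintro ⟨x, rfl⟩
      exact LinearMap.mem_ker.mp (h.le ⟨_, pushH0_natural f hf S.g x⟩)
  let θ : Coh.HH X b.X₁ 0 →ₗ[k] Coh.HH Y S.X₁ 1 := ψ.comp (hMap (k := k) b.f 0)
  have hθ : LinearMap.ker θ = LinearMap.ker (hDel (k := k) ha 0) := by
    rw [← exact₃ ha 0]
    ext w
    refine (hψker _).trans ⟨fun ⟨x, hx⟩ => ⟨x, ?_⟩, fun ⟨x, hx⟩ => ⟨x, ?_⟩⟩
    · exact injective₀ hb ((hφ x).trans hx)
    · exact (hφ x).symm.trans (congrArg _ hx)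
  have hδa : Function.Surjective (hDel (k := k) ha 0) := by
    rw [← LinearMap.range_eq_top, exact₁ ha 0, LinearMap.ker_eq_top]
    haveI := h2' 0
    exact LinearMap.ext fun x => Subsingleton.elim _ _
  let E1 : LinearMap.range θ ≃ₗ[k] Coh.HH X (kernel φ) 1 :=
    θ.quotKerEquivRange.symm ≪≫ₗ Submodule.quotEquivOfEq _ _ hθ ≪≫ₗ
      (hDel (k := k) ha 0).quotKerEquivOfSurjective hδa
  let π := (LinearMap.range θ).mkQ.comp ψ
  have hπ : LinearMap.ker π = LinearMap.ker (hMap (k := k) b.g 0) := by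
    rw [← exact₂ hb 0]
    ext z
    rw [LinearMap.mem_ker, LinearMap.comp_apply, Submodule.mkQ_apply, Submodule.Quotient.mk_eq_zero]
    refine ⟨fun ⟨w, hw⟩ => ?_, fun ⟨w, hw⟩ => ⟨w, congrArg ψ hw⟩⟩
    obtain ⟨x, hx⟩ := (hψker (z - hMap (k := k) b.f 0 w)).mp (by
      rw [map_sub]; exact sub_eq_zero.mpr hw.symm)
    exact ⟨hMap (k := k) a.g 0 x + w, by rw [map_add, hφ, hx, sub_add_cancel]⟩
  let E2 : (Coh.HH Y S.X₁ 1 ⧸ LinearMap.range θ) ≃ₗ[k] LinearMap.range (hMap (k := k) b.g 0) :=
    (π.quotKerEquivOfSurjective ((Submodule.mkQ_surjective _).comp hψ)).symm ≪≫ₗ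
      Submodule.quotEquivOfEq _ _ hπ ≪≫ₗ (hMap (k := k) b.g 0).quotKerEquivRange
  have hδbij : ∀ p, Function.Bijective (hDel (k := k) ha (p + 1)) := fun p => by
    refine ⟨?_, ?_⟩
    · rw [← LinearMap.ker_eq_bot, ← exact₃ ha (p + 1), LinearMap.range_eq_bot]
      haveI := h2' p
      exact LinearMap.ext fun x => by rw [Subsingleton.elim x 0, map_zero]; rfl
    · rw [← LinearMap.range_eq_top, exact₁ ha (p + 1), LinearMap.ker_eq_top]
      haveI := h2' (p + 1)
      exact LinearMap.ext fun x => Subsingleton.elim _ _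
  let E3 : ∀ p, Coh.HH X b.X₁ (p + 1) ≃ₗ[k] Coh.HH X (kernel φ) (p + 2) := fun p =>
    LinearEquiv.ofBijective (hDel (k := k) ha (p + 1)) (hδbij p)
  haveI := hY1
  haveI hR' : ∀ p, Module.Finite k (Coh.HH X b.X₃ p) := hR
  haveI h3' : ∀ p, Module.Finite k (Coh.HH X b.X₂ (p + 1)) := h3
  haveI hB : ∀ p, Module.Finite k (Coh.HH X b.X₁ (p + 1)) := fun p =>
    have : IsNoetherian k (Coh.HH X b.X₃ p) := isNoetherian_of_isNoetherianRing_of_finite k _
    have : IsNoetherian k (Coh.HH X b.X₂ (p + 1)) := isNoetherian_of_isNoetherianRing_of_finite k _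
    have := isNoetherian_of_range_eq_ker (hDel (k := k) hb p) (hMap (k := k) b.f (p + 1)) (exact₁ hb p)
    Module.IsNoetherian.finite k _
  haveI hK : ∀ p, Module.Finite k (Coh.HH X (kernel φ) (p + 1)) := by
    rintro (_ | p)
    · exact Module.Finite.equiv E1
    · exact Module.Finite.equiv (E3 p)
  refine ⟨fun p => Module.Finite.equiv (CurvLib.hIso (k := k) e₁ (p + 1)).symm, ?_⟩
  rw [posEuler_congr D e₁]
  let r : ℕ → ℤ := fun p => Module.finrank k (LinearMap.range (hMap (k := k) b.g p))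
  have hr : ∀ p, r p + r (p + 1) = (Module.finrank k (Coh.HH X b.X₃ p) : ℤ) -
      Module.finrank k (Coh.HH X (kernel φ) (p + 2)) + Module.finrank k (Coh.HH X b.X₂ (p + 1)) := fun p => by
    have e1 := (hDel (k := k) hb p).finrank_range_add_finrank_ker
    have e2 := (hMap (k := k) b.f (p + 1)).finrank_range_add_finrank_ker
    have e3 := (hMap (k := k) b.g (p + 1)).finrank_range_add_finrank_ker
    have e4 := (E3 p).finrank_eq
    rw [← exact₃ hb p] at e1
    rw [← exact₁ hb p] at e2
    rw [← exact₂ hb (p + 1)] at e3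
    simp only [r]
    omega
  have hsum : ∀ n : ℕ, ∑ p ∈ Finset.range n, (-1 : ℤ) ^ p * (r p + r (p + 1)) = r 0 - (-1) ^ n * r n := by
    intro n
    induction n with
    | zero => simp
    | succ n ih => rw [Finset.sum_range_succ, ih, pow_succ]; ring
  have hrD : r D = 0 := by
    haveI := hD b.X₃ D le_rfl
    simp only [r]
    exact_mod_cast Module.finrank_zero_of_subsingleton
  have hq : (Module.finrank k (Coh.HH Y S.X₁ 1) : ℤ) =
      Module.finrank k (Coh.HH X (kernel φ) 1) + r 0 := by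
    have := Submodule.finrank_quotient_add_finrank (LinearMap.range θ)
    rw [E1.finrank_eq, E2.finrank_eq] at this
    simp only [r]
    omega
  have hsplit : posEuler k D (kernel φ) = (Module.finrank k (Coh.HH X (kernel φ) 1) : ℤ) -
      ∑ p ∈ Finset.range D, (-1 : ℤ) ^ p * (Module.finrank k (Coh.HH X (kernel φ) (p + 2)) : ℤ) := by
    have h := Finset.sum_range_succ (fun p => (-1 : ℤ) ^ p * (Module.finrank k (Coh.HH X (kernel φ) (p + 1)) : ℤ)) D
    rw [Finset.sum_range_succ'] at h
    haveI := hD (kernel φ) (D + 1) (Nat.le_succ D)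
    simp only [Module.finrank_zero_of_subsingleton (M := Coh.HH X (kernel φ) (D + 1)), Nat.cast_zero,
      mul_zero, add_zero, pow_succ, mul_neg_one, neg_mul, pow_zero, one_mul, Finset.sum_neg_distrib,
      show ∀ p : ℕ, p + 1 + 1 = p + 2 from fun _ => rfl, zero_add] at h
    rw [posEuler, ← h]
    ring
  have key : r 0 = Curv2.euler k X b.X₃ + posEuler k D b.X₂ -
      ∑ p ∈ Finset.range D, (-1 : ℤ) ^ p * (Module.finrank k (Coh.HH X (kernel φ) (p + 2)) : ℤ) := by
    have := hsum D
    rw [hrD, mul_zero, sub_zero] at this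
    rw [← this, CurvLib.euler_eq_sum (hD b.X₃), posEuler, ← Finset.sum_add_distrib, ← Finset.sum_sub_distrib]
    exact Finset.sum_congr rfl fun p _ => by rw [hr p]; ring
  rw [hq, hsplit]
  change _ = _ + posEuler k D b.X₂ + Curv2.euler k X b.X₃
  rw [key]
  ring

end EulerRpushLib

end
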